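import Groth.Agent.EtContractLib.Step
import Groth.Prelude.Def_ProEtW
import Groth.Agent.WEtNormalLib.Main
import Mathlib.CategoryTheory.Functor.OfSequence

/-! A faithfully flat ind-étale algebra with étale retractions. -/

set_option autoImplicit false
set_option linter.style.haveILetI false
set_option backward.isDefEq.respectTransparency false
set_option backward.defeqAttrib.useBackward true
universe u

open CategoryTheory CategoryTheory.Limits TensorProduct

namespace Groth.Agent.EtContractLib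

theorem exists_next (X : CommRingCat.{u}) : ∃ (Y : CommRingCat.{u}) (f : X ⟶ Y),
    f.hom.FaithfullyFlat ∧ MorphismProperty.ind.{u} IndEtLib.Et f ∧
    ∀ (U : CommRingCat.{u}) (g : X ⟶ U), IndEtLib.Et g → g.hom.FaithfullyFlat → ∃ h : U ⟶ Y, g ≫ h = f := by
  obtain ⟨R', _, _, hff, hind, huniv⟩ := exists_step (R := X)
  refine ⟨CommRingCat.of R', CommRingCat.ofHom (algebraMap X R'), RingHom.faithfullyFlat_algebraMap_iff.2 hff,
    (IndEtLib.isIndEtale_iff X R').1 hind, fun U g hg hgf => ?_⟩
  letI := g.hom.toAlgebra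
  haveI : Algebra.Etale X U := hg
  haveI : Module.FaithfullyFlat X U := hgf
  obtain ⟨h⟩ := huniv U
  exact ⟨CommRingCat.ofHom h.toRingHom, by ext x; exact h.commutes x⟩

/-- A chosen step. -/
noncomputable def nx (X : CommRingCat.{u}) : CommRingCat.{u} := (exists_next X).choose

/-- The map of a step. -/
noncomputable def nxHom (X : CommRingCat.{u}) : X ⟶ nx X := (exists_next X).choose_spec.choose

/-- The iterated steps. -/
noncomputable def seq (A : Type u) [CommRing A] : ℕ → CommRingCat.{u}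
  | 0 => CommRingCat.of A
  | n + 1 => nx (seq A n)

theorem exists_etaleRetractions (A : Type u) [CommRing A] :
    ∃ (C : Type u) (_ : CommRing C) (_ : Algebra A C),
      Module.FaithfullyFlat A C ∧ EtPBC.IsIndEtale A C ∧ ProEtW.HasEtaleRetractions C := by
  let X : ℕ → CommRingCat.{u} := seq A
  let f : ∀ n, X n ⟶ X (n + 1) := fun n => nxHom (seq A n)
  have hff : ∀ Y : CommRingCat.{u}, (nxHom Y).hom.FaithfullyFlat := fun Y => (exists_next Y).choose_spec.choose_spec.1
  have hind : ∀ Y : CommRingCat.{u}, MorphismProperty.ind.{u} IndEtLib.Et (nxHom Y) := fun Y =>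
    (exists_next Y).choose_spec.choose_spec.2.1
  have huniv : ∀ (Y U : CommRingCat.{u}) (g : Y ⟶ U), IndEtLib.Et g → g.hom.FaithfullyFlat →
      ∃ h : U ⟶ nx Y, g ≫ h = nxHom Y := fun Y => (exists_next Y).choose_spec.choose_spec.2.2
  let down : ULift.{u} ℕ ⥤ ℕ := Monotone.functor (f := ULift.down) fun _ _ h => h
  let D := down ⋙ Functor.ofSequence f
  haveI : IsFiltered (ULift.{u} ℕ) := inferInstance
  let L := colimit D
  letI : Algebra A L := (colimit.ι D ⟨0⟩).hom.toAlgebra
  let b : ∀ n, X 0 ⟶ X n := fun n => (Functor.ofSequence f).map (homOfLE (Nat.zero_le n))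
  let t : (Functor.const (ULift.{u} ℕ)).obj (CommRingCat.of A) ⟶ D :=
    { app := fun j => b j.down
      naturality := fun i j g => by
        show 𝟙 _ ≫ b j.down = b i.down ≫ (Functor.ofSequence f).map (down.map g)
        rw [Category.id_comp, ← Functor.map_comp]
        rfl }
  have hts : ∀ j, t.app j ≫ (colimit.cocone D).ι.app j = CommRingCat.ofHom (algebraMap A L) := fun j => by
    exact (colimit.w D (homOfLE (show (⟨0⟩ : ULift.{u} ℕ) ≤ j from Nat.zero_le j.down))).trans rfl
  have hb : ∀ n, (CommRingCat.Hom.hom (R := seq A 0) (S := seq A n) (b n)).FaithfullyFlat ∧ MorphismProperty.ind.{u} IndEtLib.Et (b n) := by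
    intro n
    induction n with
    | zero =>
      rw [show b 0 = 𝟙 (X 0) from (Functor.ofSequence f).map_id 0]
      exact ⟨RingHom.FaithfullyFlat.of_bijective Function.bijective_id,
        MorphismProperty.le_ind _ _ (RingHom.Etale.of_bijective Function.bijective_id)⟩
    | succ n ih =>
      have e : b (n + 1) = b n ≫ f n := by
        rw [← Functor.ofSequence_map_homOfLE_succ f n, ← Functor.map_comp]
        rfl
      rw [e]
      haveI : IndEtLib.Et.{u}.IsStableUnderComposition := inferInstance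
      exact ⟨RingHom.FaithfullyFlat.stableUnderComposition _ _ ih.1 (hff (X n)),
        IndEtLib.ind_comp IndEtLib.Et IndEtLib.et_le ih.2 (hind (X n))⟩
  have hindL : EtPBC.IsIndEtale A L := by
    rw [IndEtLib.isIndEtale_iff]
    refine (MorphismProperty.ind_ind.{u} IndEtLib.et_le.{u}).le _ ?_
    exact ⟨ULift.{u} ℕ, inferInstance, inferInstance, D, t, (colimit.cocone D).ι, colimit.isColimit D,
      fun j => ⟨(hb j.down).2, hts j⟩⟩
  haveI : Algebra.WeaklyEtale A L := IndEtLib.weaklyEtale_of_isIndEtale A L hindL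
  refine ⟨L, inferInstance, inferInstance, faithfullyFlat_of_colimit (L := L) D t (colimit.cocone D).ι (colimit.isColimit D) hts
    fun j => (hb j.down).1, hindL, fun B _ _ hBff hBet => ?_⟩
  let φB : L ⟶ CommRingCat.of B := CommRingCat.ofHom (algebraMap L B)
  have hφB : IndEtLib.Et φB := (RingHom.etale_algebraMap (R := L) (S := B)).2 hBet
  obtain ⟨⟨n⟩, T', f', g', hpo, hf'⟩ := MorphismProperty.exists_isPushout_of_isFiltered (P := IndEtLib.Et.{u})
    (colimit.isColimit D) (T := CommRingCat.of B) φB hφB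
  letI : Algebra (X n) T' := RingHom.toAlgebra (show X n →+* T' from f'.hom)
  haveI : Algebra.Etale (X n) T' := hf'
  have hop : IsOpen (Set.range (PrimeSpectrum.comap (algebraMap (X n) T'))) :=
    PrimeSpectrum.isOpenMap_comap_of_hasGoingDown_of_finitePresentation.isOpen_range
  obtain ⟨J, hJ⟩ := (PrimeSpectrum.isClosed_iff_zeroLocus_ideal _).1 hop.isClosed_compl
  let ιn : X n →+* L := (colimit.ι D ⟨n⟩).hom
  have hJL : J.map ιn = ⊤ := by
    by_contra hne
    obtain ⟨m, hm, hle⟩ := Ideal.exists_le_maximal _ hne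
    obtain ⟨Q, hQ⟩ := PrimeSpectrum.comap_surjective_of_faithfullyFlat (A := L) (B := B) ⟨m, hm.isPrime⟩
    have h1 : PrimeSpectrum.comap ιn ⟨m, hm.isPrime⟩ ∈ (Set.range (PrimeSpectrum.comap (algebraMap (X n) T')))ᶜ := by
      rw [hJ]; exact Ideal.map_le_iff_le_comap.1 hle
    refine h1 ⟨PrimeSpectrum.comap g'.hom Q, ?_⟩
    rw [← hQ, ← PrimeSpectrum.comap_comp_apply, ← PrimeSpectrum.comap_comp_apply]
    exact congrArg (fun φ => PrimeSpectrum.comap φ Q) (congrArg CommRingCat.Hom.hom hpo.w).symm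
  obtain ⟨⟨k⟩, w, hw⟩ := exists_stage_eq_top D (colimit.cocone D).ι (colimit.isColimit D) (j₀ := ⟨n⟩) J hJL
  letI : Algebra (X n) (X k) := RingHom.toAlgebra (show X n →+* X k from (D.map w).hom)
  let Uk := X k ⊗[X n] T'
  haveI : Module.FaithfullyFlat (X k) Uk := by
    refine Module.FaithfullyFlat.of_comap_surjective (comap_surjective_baseChange (A := X n) ?_)
    rintro _ ⟨q, rfl⟩
    by_contra hne
    have h1 : PrimeSpectrum.comap (algebraMap (X n) (X k)) q ∈ PrimeSpectrum.zeroLocus (J : Set (X n)) := by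
      rw [← hJ]; exact hne
    refine q.2.ne_top ((Ideal.eq_top_iff_one _).2 ?_)
    exact Ideal.map_le_iff_le_comap.2 h1 (show (1 : X k) ∈ J.map (D.map w).hom by rw [hw]; trivial)
  obtain ⟨h, hh⟩ := huniv (X k) (CommRingCat.of Uk) (CommRingCat.ofHom (algebraMap (X k) Uk))
    (RingHom.etale_algebraMap.2 inferInstance) (RingHom.faithfullyFlat_algebraMap_iff.2 inferInstance)
  let ι1 : X (k + 1) ⟶ L := colimit.ι D ⟨k + 1⟩
  let ρ : T' ⟶ L := CommRingCat.ofHom (Algebra.TensorProduct.includeRight : T' →ₐ[X n] Uk).toRingHom ≫ h ≫ ι1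
  have hρ : f' ≫ ρ = colimit.ι D ⟨n⟩ ≫ 𝟙 L := by
    rw [Category.comp_id]
    ext x
    show ι1.hom (h.hom ((1 : X k) ⊗ₜ[X n] (algebraMap (X n) T' x))) = _
    rw [show (1 : X k) ⊗ₜ[X n] (algebraMap (X n) T' x) = algebraMap (X k) Uk ((D.map w).hom x) from
      ((Algebra.TensorProduct.includeRight : T' →ₐ[X n] Uk).commutes x).trans (IsScalarTower.algebraMap_apply (X n) (X k) Uk x)]
    rw [show h.hom (algebraMap (X k) Uk ((D.map w).hom x)) = (f k).hom ((D.map w).hom x) from
      ConcreteCategory.congr_hom hh _]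
    have hstep : D.map (homOfLE (show (⟨k⟩ : ULift.{u} ℕ) ≤ ⟨k + 1⟩ from Nat.le_add_right k 1)) = f k :=
      Functor.ofSequence_map_homOfLE_succ f k
    rw [← hstep]
    exact (ConcreteCategory.congr_hom (colimit.w D _) ((D.map w).hom x)).trans (ConcreteCategory.congr_hom (colimit.w D w) x)
  let r := hpo.desc (𝟙 L) ρ hρ.symm
  exact ⟨{ r.hom with commutes' := fun x => ConcreteCategory.congr_hom (hpo.inl_desc (𝟙 L) ρ hρ.symm) x }⟩

end Groth.Agent.EtContractLib
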