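import Groth.Agent.IndEtLib.Basic
import Groth.Agent.IndEtLib.Flat
import Mathlib.RingTheory.Spectrum.Prime.RingHom
import Mathlib.RingTheory.Flat.FaithfullyFlat.Algebra

/-! Faithful flatness and filtered colimits. -/

set_option autoImplicit false
set_option linter.style.haveILetI false
set_option backward.isDefEq.respectTransparency false
set_option backward.defeqAttrib.useBackward true
universe u

open CategoryTheory CategoryTheory.Limits TensorProduct

namespace Groth.Agent.EtContractLib

variable {R L : Type u} [CommRing R] [CommRing L] {J : Type u} [SmallCategory J] [IsFiltered J]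
  (D : J ⥤ CommRingCat.{u}) (t : (Functor.const J).obj (CommRingCat.of R) ⟶ D)
  (s : D ⟶ (Functor.const J).obj (CommRingCat.of L)) (hs : IsColimit (Cocone.mk _ s))

include hs

/-- An ideal which is the unit ideal in a colimit is the unit ideal at a stage. -/
theorem exists_stage_eq_top {j₀ : J} (a : Ideal (D.obj j₀)) (h : a.map (show D.obj j₀ →+* L from (s.app j₀).hom) = ⊤) :
    ∃ (j : J) (w : j₀ ⟶ j), a.map (D.map w).hom = ⊤ := by
  have hc := isColimitOfPreserves (forget CommRingCat) hs
  have key : ∀ z ∈ a.map (show D.obj j₀ →+* L from (s.app j₀).hom), ∃ (j : J) (w : j₀ ⟶ j) (y : D.obj j),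
      y ∈ a.map (D.map w).hom ∧ (show D.obj j →+* L from (s.app j).hom) y = z := by
    intro z hz
    have hz' : z ∈ Submodule.span L ((show D.obj j₀ →+* L from (s.app j₀).hom) '' (a : Set (D.obj j₀))) := hz
    have hmap : ∀ {i k : J} (f : i ⟶ k) (y : D.obj i),
      (show D.obj k →+* L from (s.app k).hom) ((D.map f).hom y) = (show D.obj i →+* L from (s.app i).hom) y := fun f y =>
      ConcreteCategory.congr_hom (s.naturality f) y
    have hmem : ∀ {i k : J} (w : j₀ ⟶ i) (f : i ⟶ k) {y : D.obj i}, y ∈ a.map (D.map w).hom →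
        (D.map f).hom y ∈ a.map (D.map (w ≫ f)).hom := fun w f y hy => by
      have := Ideal.mem_map_of_mem (D.map f).hom hy
      rwa [Ideal.map_map, show (D.map f).hom.comp (D.map w).hom = (D.map (w ≫ f)).hom by rw [D.map_comp]; rfl] at this
    induction hz' using Submodule.span_induction with
    | mem x hx =>
      obtain ⟨y, hy, rfl⟩ := hx
      exact ⟨j₀, 𝟙 j₀, y, by simpa using hy, rfl⟩
    | zero => exact ⟨j₀, 𝟙 j₀, 0, zero_mem _, map_zero _⟩
    | add x y _ _ hx hy =>
      obtain ⟨i, w, y₁, h₁, rfl⟩ := hx (by assumption)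
      obtain ⟨k, w', y₂, h₂, rfl⟩ := hy (by assumption)
      let m := IsFiltered.max i k
      let f := IsFiltered.leftToMax i k
      let g := IsFiltered.rightToMax i k
      let q := IsFiltered.coeq (w ≫ f) (w' ≫ g)
      let e := IsFiltered.coeqHom (w ≫ f) (w' ≫ g)
      have he : w ≫ f ≫ e = w' ≫ g ≫ e := by simpa [Category.assoc] using IsFiltered.coeq_condition (w ≫ f) (w' ≫ g)
      refine ⟨q, w ≫ f ≫ e, (D.map (f ≫ e)).hom y₁ + (D.map (g ≫ e)).hom y₂,
        Ideal.add_mem _ (hmem w (f ≫ e) h₁) ?_, by rw [map_add, hmap, hmap]⟩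
      rw [he]
      exact hmem w' (g ≫ e) h₂
    | smul c x _ hx =>
      obtain ⟨i, w, y₁, h₁, rfl⟩ := hx (by assumption)
      obtain ⟨k, c₀, hc₀⟩ := Types.jointly_surjective_of_isColimit hc c
      let m := IsFiltered.max i k
      refine ⟨m, w ≫ IsFiltered.leftToMax i k,
        (D.map (IsFiltered.rightToMax i k)).hom c₀ * (D.map (IsFiltered.leftToMax i k)).hom y₁,
        Ideal.mul_mem_left _ _ (hmem w _ h₁), ?_⟩
      rw [map_mul, hmap, hmap, smul_eq_mul]
      exact congrArg (· * _) hc₀
  obtain ⟨j, w, y, hy, hy1⟩ := key 1 (by rw [h]; trivial)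
  obtain ⟨k, u, v, huv⟩ := (Types.FilteredColimit.isColimit_eq_iff _ hc (xi := y) (j := j) (xj := (1 : D.obj j))).1
    (hy1.trans (map_one (show D.obj j →+* L from (s.app j).hom)).symm)
  refine ⟨k, w ≫ u, (Ideal.eq_top_iff_one _).2 ?_⟩
  have h2 := Ideal.mem_map_of_mem (D.map u).hom hy
  rw [Ideal.map_map, show (D.map u).hom.comp (D.map w).hom = (D.map (w ≫ u)).hom by rw [D.map_comp]; rfl,
    show (D.map u).hom y = 1 from huv.trans (map_one (D.map v).hom)] at h2
  exact h2

/-- A flat filtered colimit of faithfully flat algebras is faithfully flat. -/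
theorem faithfullyFlat_of_colimit [Algebra R L] [Module.Flat R L]
    (hts : ∀ j, t.app j ≫ s.app j = CommRingCat.ofHom (algebraMap R L))
    (hff : ∀ j, (t.app j).hom.FaithfullyFlat) : Module.FaithfullyFlat R L := by
  refine ⟨fun m hm htop => ?_⟩
  rw [Ideal.smul_top_eq_map] at htop
  have htop' : m.map (algebraMap R L) = ⊤ := (Submodule.restrictScalars_eq_top_iff R L L).1 htop
  let j₀ : J := IsFiltered.nonempty.some
  have h1 : (m.map (show R →+* D.obj j₀ from (t.app j₀).hom)).map (show D.obj j₀ →+* L from (s.app j₀).hom) = ⊤ := by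
    rw [Ideal.map_map, show (show D.obj j₀ →+* L from (s.app j₀).hom).comp (show R →+* D.obj j₀ from (t.app j₀).hom) = algebraMap R L from congrArg CommRingCat.Hom.hom (hts j₀)]
    exact htop'
  obtain ⟨j, w, hw⟩ := exists_stage_eq_top D s hs _ h1
  letI : Algebra R (D.obj j) := RingHom.toAlgebra (show R →+* D.obj j from (t.app j).hom)
  rw [Ideal.map_map, show (D.map w).hom.comp (show R →+* D.obj j₀ from (t.app j₀).hom) = algebraMap R (D.obj j) from
    congrArg CommRingCat.Hom.hom (t.naturality w).symm] at hw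
  haveI : Module.FaithfullyFlat R (D.obj j) := hff j
  refine Module.FaithfullyFlat.submodule_ne_top (R := R) (M := D.obj j) hm ?_
  rw [Ideal.smul_top_eq_map, Submodule.restrictScalars_eq_top_iff]
  exact hw

omit hs in
theorem nontrivial_field_tensor {K L N : Type u} [Field K] [Field L] [Algebra K L] [AddCommGroup N] [Module K N]
    [Nontrivial N] : Nontrivial (L ⊗[K] N) := inferInstance

omit hs in
set_option maxHeartbeats 800000 in
set_option synthInstance.maxHeartbeats 200000 in
/-- Base change of a map whose image contains the image of the base. -/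
theorem comap_surjective_baseChange {A A' U : Type u} [CommRing A] [CommRing A'] [CommRing U] [Algebra A A'] [Algebra A U]
    (h : Set.range (PrimeSpectrum.comap (algebraMap A A')) ⊆ Set.range (PrimeSpectrum.comap (algebraMap A U))) :
    Function.Surjective (PrimeSpectrum.comap (algebraMap A' (A' ⊗[A] U))) := by
  intro q
  let p := PrimeSpectrum.comap (algebraMap A A') q
  haveI : Nontrivial (p.asIdeal.ResidueField ⊗[A] U) :=
    (PrimeSpectrum.nontrivial_iff_mem_rangeComap p).2 (h ⟨q, rfl⟩)
  refine (PrimeSpectrum.nontrivial_iff_mem_rangeComap (S := A' ⊗[A] U) q).1 ?_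
  letI : Algebra p.asIdeal.ResidueField q.asIdeal.ResidueField :=
    (Ideal.ResidueField.mapₐ p.asIdeal q.asIdeal (Algebra.ofId A A') rfl).toRingHom.toAlgebra
  haveI : IsScalarTower A p.asIdeal.ResidueField q.asIdeal.ResidueField :=
    IsScalarTower.of_algebraMap_eq fun a => ((Ideal.ResidueField.mapₐ p.asIdeal q.asIdeal (Algebra.ofId A A') rfl).commutes a).symm
  haveI : Nontrivial (q.asIdeal.ResidueField ⊗[p.asIdeal.ResidueField] (p.asIdeal.ResidueField ⊗[A] U)) :=
    nontrivial_field_tensor
  exact ((Algebra.TensorProduct.cancelBaseChange A A' A' q.asIdeal.ResidueField U).toEquiv.trans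
    (Algebra.TensorProduct.cancelBaseChange A p.asIdeal.ResidueField q.asIdeal.ResidueField q.asIdeal.ResidueField U).symm.toEquiv).nontrivial

end Groth.Agent.EtContractLib
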