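import Groth.Agent.EtContractLib.Basic
import Mathlib.Algebra.Category.Ring.FilteredColimits

/-! The tensor product of all faithfully flat étale algebras. -/

set_option autoImplicit false
set_option linter.style.haveILetI false
set_option backward.isDefEq.respectTransparency false
set_option backward.defeqAttrib.useBackward true
universe u

open CategoryTheory CategoryTheory.Limits TensorProduct

namespace Groth.Agent.EtContractLib

variable (R : Type u) [CommRing R]

/-- A model of a faithfully flat étale algebra. -/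
structure Model : Type u where
  n : ℕ
  I : Ideal (MvPolynomial (Fin n) R)
  et : Algebra.Etale R (MvPolynomial (Fin n) R ⧸ I)
  ff : Module.FaithfullyFlat R (MvPolynomial (Fin n) R ⧸ I)

variable {R}

/-- The algebra of a model. -/
def Model.U (m : Model R) : Type u := MvPolynomial (Fin m.n) R ⧸ m.I

noncomputable instance (m : Model R) : CommRing m.U := inferInstanceAs (CommRing (MvPolynomial (Fin m.n) R ⧸ m.I))

noncomputable instance (m : Model R) : Algebra R m.U := inferInstanceAs (Algebra R (MvPolynomial (Fin m.n) R ⧸ m.I))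

instance Model.etale_U (m : Model R) : Algebra.Etale R m.U := m.et

instance Model.ff_U (m : Model R) : Module.FaithfullyFlat R m.U := m.ff

theorem exists_model (U : Type u) [CommRing U] [Algebra R U] [Algebra.Etale R U] [Module.FaithfullyFlat R U] :
    ∃ m : Model R, Nonempty (U ≃ₐ[R] m.U) := by
  obtain ⟨n, f, hf, -⟩ := (inferInstance : Algebra.FinitePresentation R U).out
  let e := Ideal.quotientKerAlgEquivOfSurjective hf
  exact ⟨⟨n, RingHom.ker f, Algebra.Etale.of_equiv e.symm,
    Module.FaithfullyFlat.of_linearEquiv _ _ (e.toLinearEquiv)⟩, ⟨e.symm⟩⟩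

/-- Transport along an equality of models. -/
noncomputable def castHom : ∀ {m m' : Model R}, m = m' → (m.U →ₐ[R] m'.U)
  | _, _, rfl => AlgHom.id R _

/-- A tensor product of finitely many models, up to isomorphism. -/
structure Obj (R : Type u) [CommRing R] : Type u where
  S : Finset (Model R)
  P : Model R
  ι : ∀ s : S, s.1.U →ₐ[R] P.U
  ext : ∀ (T : Type u) [CommRing T] [Algebra R T] (g h : P.U →ₐ[R] T), (∀ s, g.comp (ι s) = h.comp (ι s)) → g = h
  ex : ∀ (T : Type u) [CommRing T] [Algebra R T] (f : ∀ s : S, s.1.U →ₐ[R] T), ∃ g : P.U →ₐ[R] T, ∀ s, g.comp (ι s) = f s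

theorem exists_obj (S : Finset (Model R)) : ∃ o : Obj R, o.S = S := by
  classical
  induction S using Finset.induction with
  | empty =>
    obtain ⟨m, ⟨e⟩⟩ := exists_model (R := R) R
    exact ⟨⟨∅, m, fun s => absurd s.2 (Finset.notMem_empty _),
      fun T _ _ g h _ => by
        refine AlgHom.ext fun x => ?_
        obtain ⟨r, rfl⟩ := e.surjective x
        rw [show e r = algebraMap R m.U r from e.commutes r, AlgHom.commutes, AlgHom.commutes],
      fun T _ _ _ => ⟨(Algebra.ofId R T).comp e.symm.toAlgHom, fun s => absurd s.2 (Finset.notMem_empty _)⟩⟩, rfl⟩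
  | insert a S ha ih =>
    obtain ⟨o, rfl⟩ := ih
    let V := o.P.U ⊗[R] a.U
    haveI : Algebra.Etale R V := Algebra.Etale.comp R o.P.U V
    haveI : Module.FaithfullyFlat R V := Module.FaithfullyFlat.trans R o.P.U V
    obtain ⟨m, ⟨e⟩⟩ := exists_model (R := R) V
    let inc : ∀ s : {x // x ∈ insert a o.S}, s.1.U →ₐ[R] m.U := fun s =>
      if h : s.1 ∈ o.S then e.toAlgHom.comp (Algebra.TensorProduct.includeLeft.comp (o.ι ⟨s.1, h⟩))
      else (e.toAlgHom.comp (Algebra.TensorProduct.includeRight : a.U →ₐ[R] V)).comp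
        (castHom ((Finset.mem_insert.1 s.2).resolve_right h))
    have hold : ∀ (s : o.S), inc ⟨s.1, Finset.mem_insert_of_mem s.2⟩ =
        e.toAlgHom.comp (Algebra.TensorProduct.includeLeft.comp (o.ι s)) := fun s => dif_pos s.2
    have hnew : inc ⟨a, Finset.mem_insert_self _ _⟩ = e.toAlgHom.comp (Algebra.TensorProduct.includeRight : a.U →ₐ[R] V) :=
      (dif_neg ha).trans (AlgHom.comp_id _)
    refine ⟨⟨insert a o.S, m, inc, fun T _ _ g h hgh => ?_, fun T _ _ f => ?_⟩, rfl⟩
    · have key : g.comp e.toAlgHom = h.comp e.toAlgHom := by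
        refine Algebra.TensorProduct.ext ?_ ?_
        · refine o.ext T _ _ fun s => ?_
          have := hgh ⟨s.1, Finset.mem_insert_of_mem s.2⟩
          rw [hold] at this
          refine AlgHom.ext fun x => ?_
          exact AlgHom.congr_fun this x
        · have := hgh ⟨a, Finset.mem_insert_self _ _⟩
          rw [hnew] at this
          refine AlgHom.ext fun x => ?_
          exact AlgHom.congr_fun this x
      refine AlgHom.ext fun x => ?_
      obtain ⟨y, rfl⟩ := e.surjective x
      exact AlgHom.congr_fun key y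
    · obtain ⟨g, hg⟩ := o.ex T fun s => f ⟨s.1, Finset.mem_insert_of_mem s.2⟩
      let Lf := Algebra.TensorProduct.lift g (f ⟨a, Finset.mem_insert_self _ _⟩) fun _ _ => Commute.all _ _
      refine ⟨Lf.comp e.symm.toAlgHom,
        fun s => ?_⟩
      obtain ⟨s, hs⟩ := s
      rcases Finset.mem_insert.1 hs with rfl | hs'
      · rw [hnew]
        refine AlgHom.ext fun x => ?_
        show Lf (e.symm (e _)) = _
        rw [e.symm_apply_apply]
        show Lf ((1 : o.P.U) ⊗ₜ[R] x) = _
        simp only [Lf, Algebra.TensorProduct.lift_tmul, map_one, one_mul]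
      · rw [hold ⟨s, hs'⟩]
        refine AlgHom.ext fun x => ?_
        show Lf (e.symm (e ((Algebra.TensorProduct.includeLeft : o.P.U →ₐ[R] V) (o.ι ⟨s, hs'⟩ x)))) = _
        rw [e.symm_apply_apply]
        show Lf ((o.ι ⟨s, hs'⟩ x) ⊗ₜ[R] (1 : a.U)) = _
        simp only [Lf, Algebra.TensorProduct.lift_tmul, map_one, mul_one]
        exact AlgHom.congr_fun (hg ⟨s, hs'⟩) x

/-- The map along an inclusion. -/
noncomputable def Obj.map {o o' : Obj R} (h : o.S ⊆ o'.S) : o.P.U →ₐ[R] o'.P.U :=
  (o.ex o'.P.U fun s => o'.ι ⟨s.1, h s.2⟩).choose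

theorem Obj.map_ι {o o' : Obj R} (h : o.S ⊆ o'.S) (s : o.S) : (Obj.map h).comp (o.ι s) = o'.ι ⟨s.1, h s.2⟩ :=
  (o.ex o'.P.U fun s => o'.ι ⟨s.1, h s.2⟩).choose_spec s

instance : Preorder (Obj R) where
  le o o' := o.S ⊆ o'.S
  le_refl o := Finset.Subset.refl _
  le_trans _ _ _ h h' := h.trans h'

theorem exists_step :
    ∃ (R' : Type u) (_ : CommRing R') (_ : Algebra R R'), Module.FaithfullyFlat R R' ∧ EtPBC.IsIndEtale R R' ∧
      ∀ (U : Type u) [CommRing U] [Algebra R U] [Algebra.Etale R U] [Module.FaithfullyFlat R U],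
        Nonempty (U →ₐ[R] R') := by
  classical
  haveI : Nonempty (Obj R) := ⟨(exists_obj ∅).choose⟩
  haveI : IsDirectedOrder (Obj R) := ⟨fun o o' => by
    obtain ⟨p, hp⟩ := exists_obj (o.S ∪ o'.S)
    exact ⟨p, show o.S ⊆ p.S by rw [hp]; exact Finset.subset_union_left,
      show o'.S ⊆ p.S by rw [hp]; exact Finset.subset_union_right⟩⟩
  haveI : IsFiltered (Obj R) := isFiltered_of_directed_le_nonempty (Obj R)
  let D : Obj R ⥤ CommRingCat.{u} :=
    { obj := fun o => CommRingCat.of o.P.U
      map := fun f => CommRingCat.ofHom (Obj.map (leOfHom f)).toRingHom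
      map_id := fun o => by
        ext x
        have : Obj.map (le_refl o) = AlgHom.id R _ := o.ext _ _ _ fun s => by rw [Obj.map_ι, AlgHom.id_comp]
        exact AlgHom.congr_fun this x
      map_comp := fun {o p q} f g => by
        ext x
        have : Obj.map (leOfHom (f ≫ g)) = (Obj.map (leOfHom g)).comp (Obj.map (leOfHom f)) := o.ext _ _ _ fun s => by
          rw [AlgHom.comp_assoc, Obj.map_ι, Obj.map_ι, Obj.map_ι]
        exact AlgHom.congr_fun this x }
  let t : (Functor.const (Obj R)).obj (CommRingCat.of R) ⟶ D :=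
    { app := fun o => CommRingCat.ofHom (algebraMap R o.P.U)
      naturality := fun o p f => by ext r; exact ((Obj.map (leOfHom f)).commutes r).symm }
  let L := colimit D
  let o₀ : Obj R := (exists_obj ∅).choose
  letI : Algebra R L := ((colimit.ι D o₀).hom.comp (algebraMap R o₀.P.U)).toAlgebra
  have hcomm : ∀ (o : Obj R) (r : R), (colimit.ι D o).hom (algebraMap R o.P.U r) = algebraMap R L r := by
    intro o r
    let k := IsFiltered.max o₀ o
    have e1 := ConcreteCategory.congr_hom (colimit.w D (IsFiltered.leftToMax o₀ o)) (algebraMap R o₀.P.U r)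
    have e2 := ConcreteCategory.congr_hom (colimit.w D (IsFiltered.rightToMax o₀ o)) (algebraMap R o.P.U r)
    show _ = (colimit.ι D o₀).hom (algebraMap R o₀.P.U r)
    exact (e2.symm.trans (congrArg (colimit.ι D k).hom ((Obj.map (leOfHom (IsFiltered.rightToMax o₀ o))).commutes r))).trans
      ((congrArg (colimit.ι D k).hom ((Obj.map (leOfHom (IsFiltered.leftToMax o₀ o))).commutes r)).symm.trans e1)
  have hts : ∀ o, t.app o ≫ (colimit.cocone D).ι.app o = CommRingCat.ofHom (algebraMap R L) := fun o => by
    ext r; exact hcomm o r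
  have hind : EtPBC.IsIndEtale R L := by
    rw [IndEtLib.isIndEtale_iff]
    exact ⟨Obj R, inferInstance, inferInstance, D, t, (colimit.cocone D).ι, colimit.isColimit D,
      fun o => ⟨RingHom.etale_algebraMap.2 inferInstance, hts o⟩⟩
  haveI : Algebra.WeaklyEtale R L := IndEtLib.weaklyEtale_of_isIndEtale R L hind
  refine ⟨L, inferInstance, inferInstance, ?_, hind, fun U _ _ _ _ => ?_⟩
  · exact faithfullyFlat_of_colimit (L := L) D t (colimit.cocone D).ι (colimit.isColimit D) hts fun o =>
      RingHom.faithfullyFlat_algebraMap_iff.2 inferInstance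
  · obtain ⟨m, ⟨e⟩⟩ := exists_model (R := R) U
    obtain ⟨o, ho⟩ := exists_obj {m}
    have hm : m ∈ o.S := by rw [ho]; exact Finset.mem_singleton_self m
    let ι' : o.P.U →ₐ[R] L := { (colimit.ι D o).hom with commutes' := hcomm o }
    exact ⟨ι'.comp ((o.ι ⟨m, hm⟩).comp e.toAlgHom)⟩

end Groth.Agent.EtContractLib
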